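import Groth.Agent.Lib.InjHull.Complete
import Groth.Agent.Lib.InjHull.Basic
import Mathlib.RingTheory.Localization.AtPrime.Basic
import Mathlib.RingTheory.Ideal.Colon
import Mathlib.RingTheory.Nilpotent.Lemmas

/-!
# Locally nilpotent Frobenius actions on Artinian modules are nilpotent

The theorem of Hartshorne–Speiser and Lyubeznik over a complete local ring: the ideals
`ker φ^e : ker φ^(e+1)` ascend; once they are stable equal to a radical ideal `𝔞`, their square
kills all of the further kernels modulo a fixed one, and localising the Matlis dual at a minimal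
prime of `𝔞` bounds the number of steps.
-/

set_option autoImplicit false
set_option linter.style.haveILetI false

universe u

open IsLocalRing
open Groth.Agent.Lib.InjHull

namespace Groth.Agent.H24.FrobNilp

section Kernels

variable {R M : Type u} [CommRing R] [AddCommGroup M] [Module R M] (p : ℕ) (φ : M →+ M)
  (hφ : ∀ (a : R) (x : M), φ (a • x) = a ^ p • φ x)

include hφ in
theorem iterate_smul (e : ℕ) : ∀ (a : R) (x : M), (⇑φ)^[e] (a • x) = a ^ p ^ e • (⇑φ)^[e] x := by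
  induction e with
  | zero => intro a x; simp
  | succ e ih =>
    intro a x
    rw [Function.iterate_succ_apply, Function.iterate_succ_apply, hφ, ih, ← pow_mul, pow_succ']

theorem iterate_zero' (e : ℕ) : (⇑φ)^[e] 0 = 0 := iterate_map_zero φ e

/-- The kernel of the `e`-th iterate. -/
def ker (e : ℕ) : Submodule R M where
  carrier := {x | (⇑φ)^[e] x = 0}
  add_mem' {x y} hx hy := by
    show (⇑φ)^[e] (x + y) = 0
    rw [iterate_map_add φ e x y, hx, hy, add_zero]
  zero_mem' := iterate_zero' φ e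
  smul_mem' a x hx := by
    show (⇑φ)^[e] (a • x) = 0
    rw [iterate_smul p φ hφ e, hx, smul_zero]

theorem mem_ker {e : ℕ} {x : M} : x ∈ ker p φ hφ e ↔ (⇑φ)^[e] x = 0 := Iff.rfl

theorem mem_ker_succ {e : ℕ} {x : M} : x ∈ ker p φ hφ (e + 1) ↔ φ x ∈ ker p φ hφ e := Iff.rfl

theorem ker_mono : Monotone (ker p φ hφ) := monotone_nat_of_le_succ fun e x hx => by
  show (⇑φ)^[e + 1] x = 0
  rw [Function.iterate_succ_apply', (mem_ker p φ hφ).1 hx, map_zero]

/-- The ideal `ker φ^e : ker φ^(e+1)`. -/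
def quotAnn (e : ℕ) : Ideal R where
  carrier := {a | ∀ x ∈ ker p φ hφ (e + 1), a • x ∈ ker p φ hφ e}
  add_mem' {a b} ha hb x hx := by
    rw [add_smul]
    exact add_mem (ha x hx) (hb x hx)
  zero_mem' x _ := by
    rw [zero_smul]
    exact zero_mem _
  smul_mem' c a ha x hx := by
    rw [smul_eq_mul, mul_smul]
    exact Submodule.smul_mem _ c (ha x hx)

theorem mem_quotAnn_succ {e : ℕ} {a : R} (ha : a ^ p ∈ quotAnn p φ hφ e) :
    a ∈ quotAnn p φ hφ (e + 1) := fun x hx => by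
  rw [mem_ker_succ, hφ]
  exact ha _ ((mem_ker_succ p φ hφ).1 hx)

theorem quotAnn_mono (hp : 0 < p) : Monotone (quotAnn p φ hφ) :=
  monotone_nat_of_le_succ fun _ _ ha => mem_quotAnn_succ p φ hφ (Ideal.pow_mem_of_mem _ ha p hp)

theorem exists_quotAnn_stable [IsNoetherianRing R] (hp : 0 < p) :
    ∃ e₁, ∀ e, e₁ ≤ e → quotAnn p φ hφ e = quotAnn p φ hφ e₁ := by
  obtain ⟨n, hn⟩ := monotone_stabilizes_iff_noetherian.2 (inferInstance : IsNoetherian R R)
    ⟨quotAnn p φ hφ, quotAnn_mono p φ hφ hp⟩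
  exact ⟨n, fun e he => (hn e he).symm⟩

/-- Above the stable index the square of the stable ideal maps every kernel into a fixed one. -/
theorem mul_smul_mem (hp : 2 ≤ p) {e₁ : ℕ}
    (_he₁ : ∀ e, e₁ ≤ e → quotAnn p φ hφ e = quotAnn p φ hφ e₁) :
    ∀ (k : ℕ) (x : M), x ∈ ker p φ hφ (e₁ + k) → ∀ a ∈ quotAnn p φ hφ e₁,
      ∀ b ∈ quotAnn p φ hφ e₁, (b * a) • x ∈ ker p φ hφ e₁ := by
  have key : ∀ (k : ℕ) (x : M), x ∈ ker p φ hφ (e₁ + k + 1) → ∀ a ∈ quotAnn p φ hφ e₁,
      a • x ∈ ker p φ hφ (e₁ + 1) := by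
    intro k
    induction k with
    | zero => exact fun x hx a _ => Submodule.smul_mem _ a hx
    | succ k ih =>
      intro x hx a ha
      rw [mem_ker_succ, hφ,
        show a ^ p = a ^ (p - 2) * (a * a) by rw [← pow_two, ← pow_add, Nat.sub_add_cancel hp],
        mul_smul, mul_smul]
      exact Submodule.smul_mem _ _ (ha _ (ih _ ((mem_ker_succ p φ hφ).1 hx) a ha))
  intro k x hx a ha b hb
  rw [mul_smul]
  exact hb _ (key k x (ker_mono p φ hφ (Nat.le_succ _) hx) a ha)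

end Kernels

/-- A descending chain of submodules of a finite module, bounded below by `𝔟 N₀`, is eventually
stationary at a minimal prime of `𝔟`. -/
theorem chain_stops {R : Type u} [CommRing R] [IsNoetherianRing R] {D : Type u} [AddCommGroup D]
    [Module R D] [Module.Finite R D] {P : Ideal R} [P.IsPrime] (Rp : Type u) [CommRing Rp]
    [Algebra R Rp] [IsLocalization.AtPrime Rp P] {L : Type u} [AddCommGroup L] [Module R L]
    [Module Rp L] [IsScalarTower R Rp L] (g : D →ₗ[R] L) [IsLocalizedModule P.primeCompl g]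
    (𝔟 : Ideal R) (hP : P ∈ 𝔟.minimalPrimes) (N : ℕ → Submodule R D) (hN : Antitone N)
    (hsq : ∀ k, ∀ c ∈ 𝔟, ∀ ψ ∈ N 0, c • ψ ∈ N k) :
    ∃ (k : ℕ) (σ : R), σ ∉ P ∧ ∀ ψ ∈ N k, σ • ψ ∈ N (k + 1) := by
  classical
  let NL : ℕ → Submodule Rp L := fun e => (N e).localized' Rp P.primeCompl g
  let W := NL 0
  haveI : IsLocalRing Rp := IsLocalization.AtPrime.isLocalRing Rp P
  let J : Ideal Rp := 𝔟.map (algebraMap R Rp)
  have hcm : (maximalIdeal Rp).comap (algebraMap R Rp) = P :=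
    IsLocalization.AtPrime.comap_maximalIdeal Rp P
  haveI : IsNoetherianRing Rp := IsLocalization.isNoetherianRing P.primeCompl Rp inferInstance
  obtain ⟨n, hn⟩ : ∃ n, maximalIdeal Rp ^ n ≤ J := by
    refine Ideal.exists_pow_le_of_le_radical_of_fg ?_ (IsNoetherian.noetherian _)
    rw [Ideal.radical_eq_sInf]
    refine le_sInf ?_
    rintro Q ⟨hJQ, hQ⟩
    haveI := hQ
    have h2 : Q.comap (algebraMap R Rp) ≤ P :=
      (Ideal.comap_mono (IsLocalRing.le_maximalIdeal hQ.ne_top)).trans hcm.le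
    intro z hz
    obtain ⟨⟨a, s⟩, has⟩ := IsLocalization.surj P.primeCompl z
    have ha : a ∈ P := by
      refine hcm.le ?_
      rw [Ideal.mem_comap, ← has]
      exact Ideal.mul_mem_right _ _ hz
    have ha' : a ∈ Q.comap (algebraMap R Rp) :=
      hP.2 ⟨hQ.comap _, Ideal.map_le_iff_le_comap.1 hJQ⟩ h2 ha
    rw [Ideal.mem_comap, ← has] at ha'
    exact (Ideal.mul_unit_mem_iff_mem Q (IsLocalization.map_units Rp s)).1 ha'
  have hJW : ∀ k, J • (⊤ : Submodule Rp W) ≤ (NL k).comap W.subtype := by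
    intro k
    have hle : J ≤ (NL k).colon (W : Set L) := by
      refine Ideal.map_le_iff_le_comap.2 fun c hc => ?_
      rw [Ideal.mem_comap, Submodule.mem_colon]
      rintro w ⟨ψ, hψ, s, rfl⟩
      refine ⟨c • ψ, hsq k c hc ψ hψ, s, ?_⟩
      rw [algebraMap_smul, IsLocalizedModule.mk'_smul]
    exact Submodule.smul_le.2 fun r hr w _ => Submodule.mem_colon.1 (hle hr) w w.2
  haveI : Module.Finite Rp L := Module.Finite.of_isLocalizedModule P.primeCompl g
  haveI hQA : IsArtinian Rp (W ⧸ J • (⊤ : Submodule Rp W)) :=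
    (isFiniteLength_iff_isNoetherian_isArtinian.1
      (Complete.isFiniteLength_of_pow_smul (maximalIdeal Rp) n _ fun z c hc => by
        obtain ⟨w, rfl⟩ := Submodule.Quotient.mk_surjective _ z
        rw [← Submodule.Quotient.mk_smul, Submodule.Quotient.mk_eq_zero]
        exact Submodule.smul_mem_smul (hn hc) Submodule.mem_top)).2
  let C : ℕ →o (Submodule Rp (W ⧸ J • (⊤ : Submodule Rp W)))ᵒᵈ :=
    ⟨fun k => OrderDual.toDual (((NL k).comap W.subtype).map (J • (⊤ : Submodule Rp W)).mkQ),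
      fun a b h => Submodule.map_mono (Submodule.comap_mono (fun z ⟨ψ, hψ, s, hs⟩ =>
        ⟨ψ, hN h hψ, s, hs⟩))⟩
  obtain ⟨k, hk⟩ := IsArtinian.monotone_stabilizes C
  have hk' : ((NL k).comap W.subtype).map (J • (⊤ : Submodule Rp W)).mkQ =
      ((NL (k + 1)).comap W.subtype).map (J • (⊤ : Submodule Rp W)).mkQ :=
    hk (k + 1) (Nat.le_succ k)
  have hcomap : (NL k).comap W.subtype = (NL (k + 1)).comap W.subtype := by
    have h := congrArg (Submodule.comap (J • (⊤ : Submodule Rp W)).mkQ) hk'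
    rwa [Submodule.comap_map_mkQ, Submodule.comap_map_mkQ, sup_eq_right.2 (hJW _),
      sup_eq_right.2 (hJW _)] at h
  have hs : ∀ ψ ∈ N k, ∃ s : P.primeCompl, (s : R) • ψ ∈ N (k + 1) := by
    intro ψ hψ
    have hW : g ψ ∈ W := ⟨ψ, hN (Nat.zero_le k) hψ, 1, by simp⟩
    have h1 : (⟨g ψ, hW⟩ : W) ∈ (NL k).comap W.subtype := ⟨ψ, hψ, 1, by simp⟩
    rw [hcomap] at h1
    obtain ⟨ψ', hψ', t, ht⟩ := h1
    have ht' : g ψ' = t • g ψ := (IsLocalizedModule.mk'_eq_iff).1 ht
    rw [Submonoid.smul_def, ← map_smul] at ht'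
    obtain ⟨c, hc⟩ := IsLocalizedModule.exists_of_eq (S := P.primeCompl) (f := g) ht'
    refine ⟨c * t, ?_⟩
    rw [Submonoid.coe_mul, mul_smul, show (c : R) • (t : R) • ψ = (c : R) • ψ' from hc.symm]
    exact Submodule.smul_mem _ _ hψ'
  obtain ⟨T, hT⟩ := IsNoetherian.noetherian (N k)
  choose s hs using hs
  have hmem : ∀ ψ ∈ T, ψ ∈ N k := fun ψ hψ => hT ▸ Submodule.subset_span hψ
  let σ : P.primeCompl := ∏ ψ ∈ T.attach, s ψ.1 (hmem _ ψ.2)
  refine ⟨k, σ, σ.2, fun ψ hψ => ?_⟩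
  rw [← hT] at hψ
  induction hψ using Submodule.span_induction with
  | mem z hz =>
    obtain ⟨d, hd⟩ := Finset.dvd_prod_of_mem (fun ψ : T => s ψ.1 (hmem _ ψ.2))
      (Finset.mem_attach T ⟨z, hz⟩)
    rw [show (σ : R) = (d : R) * (s z (hmem _ hz) : R) by
      rw [mul_comm, ← Submonoid.coe_mul, ← hd], mul_smul]
    exact Submodule.smul_mem _ _ (hs z (hmem _ hz))
  | zero => rw [smul_zero]; exact zero_mem _
  | add a b _ _ ha hb => rw [smul_add]; exact add_mem ha hb
  | smul c a _ ha => rw [smul_comm]; exact Submodule.smul_mem _ _ ha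

theorem core {R : Type u} [CommRing R] [IsLocalRing R] [IsNoetherianRing R]
    [IsPrecomplete (maximalIdeal R) R] {M : Type u} [AddCommGroup M] [Module R M] [IsArtinian R M]
    (p : ℕ) (hp : 2 ≤ p) (φ : M →+ M) (hφ : ∀ (a : R) (x : M), φ (a • x) = a ^ p • φ x)
    (hloc : ∀ x : M, ∃ n : ℕ, (⇑φ)^[n] x = 0) : ∃ n : ℕ, ∀ x : M, (⇑φ)^[n] x = 0 := by
  classical
  obtain ⟨e₁, he₁⟩ := exists_quotAnn_stable p φ hφ (by omega)
  let 𝔞 := quotAnn p φ hφ e₁
  refine ⟨e₁, fun x => ?_⟩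
  by_cases h𝔞 : 𝔞 = ⊤
  · obtain ⟨n, hn⟩ := hloc x
    have hdown : ∀ k, ∀ y ∈ ker p φ hφ (e₁ + k), y ∈ ker p φ hφ e₁ := by
      intro k
      induction k with
      | zero => exact fun y hy => hy
      | succ k ih =>
        intro y hy
        have h1 : (1 : R) ∈ quotAnn p φ hφ (e₁ + k) := by
          rw [he₁ _ (by omega)]
          exact (Ideal.eq_top_iff_one _).1 h𝔞
        simpa using ih _ (h1 y hy)
    exact hdown n x (ker_mono p φ hφ (by omega) hn)
  exfalso
  obtain ⟨P, hP⟩ := Ideal.nonempty_minimalPrimes h𝔞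
  haveI : P.IsPrime := hP.1.1
  -- the dual
  obtain ⟨E, _, _, f, hf⟩ := Basic.exists_hull (R := R) (R ⧸ maximalIdeal R)
  haveI : Module.Finite R (M →ₗ[R] E) := (Complete.finite_dual_of_isArtinian hf M).1
  let N : ℕ → Submodule R (M →ₗ[R] E) := fun e =>
    { carrier := {ψ | ∀ y ∈ ker p φ hφ e, ψ y = 0}
      add_mem' := fun {a b} ha hb y hy => by rw [LinearMap.add_apply, ha y hy, hb y hy, add_zero]
      zero_mem' := fun y _ => rfl
      smul_mem' := fun c a ha y hy => by rw [LinearMap.smul_apply, ha y hy, smul_zero] }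
  have hN : ∀ {e e'}, e ≤ e' → N e' ≤ N e := fun h ψ hψ y hy => hψ y (ker_mono p φ hφ h hy)
  have hsq : ∀ k, ∀ c ∈ 𝔞 * 𝔞, ∀ ψ ∈ N e₁, c • ψ ∈ N (e₁ + k) := by
    intro k c hc ψ hψ
    refine Submodule.mul_induction_on hc (fun b hb a ha y hy => ?_)
      (fun a b ha hb => by rw [add_smul]; exact add_mem ha hb)
    rw [LinearMap.smul_apply, ← map_smul]
    exact hψ _ (mul_smul_mem p φ hφ hp he₁ k y hy a ha b hb)
  have hcolon : ∀ e, ∀ a : R, (∀ ψ ∈ N e, a • ψ ∈ N (e + 1)) → a ∈ quotAnn p φ hφ e := by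
    intro e a ha y hy
    rw [← Submodule.Quotient.mk_eq_zero]
    refine Matlis.eq_zero_of_forall_dual hf fun θ => ?_
    have hψ : θ ∘ₗ (ker p φ hφ e).mkQ ∈ N e := fun z hz => by
      rw [LinearMap.comp_apply, Submodule.mkQ_apply, (Submodule.Quotient.mk_eq_zero _).2 hz,
        map_zero]
    have h := ha _ hψ y hy
    rw [LinearMap.smul_apply, ← map_smul] at h
    exact h
  have hPsq : P ∈ (𝔞 * 𝔞).minimalPrimes :=
    ⟨⟨hP.1.1, Ideal.mul_le_right.trans hP.1.2⟩, fun Q hQ hQP => hP.2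
      ⟨hQ.1, fun a ha => (hQ.1.mem_or_mem (hQ.2 (Ideal.mul_mem_mul ha ha))).elim id id⟩ hQP⟩
  obtain ⟨k, σ, hσP, hσ⟩ := chain_stops (Localization P.primeCompl)
    (LocalizedModule.mkLinearMap P.primeCompl (M →ₗ[R] E)) (𝔞 * 𝔞) hPsq (fun k => N (e₁ + k))
    (fun a b h => hN (Nat.add_le_add_left h e₁)) hsq
  have h := hcolon (e₁ + k) σ hσ
  rw [he₁ _ (by omega)] at h
  exact hσP (hP.1.2 h)

end Groth.Agent.H24.FrobNilp
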