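import Groth.Agent.H24.FrobNilp.Core
import Groth.Agent.Lib.Regular.Completion

/-!
# Reduction to a complete local ring
-/

set_option autoImplicit false
set_option linter.style.haveILetI false

universe u

open IsLocalRing
open Groth.Agent.Lib.InjHull

namespace Groth.Agent.H24.FrobNilp

theorem of_isArtinian {A : Type u} [CommRing A] [IsLocalRing A] [IsNoetherianRing A] {M : Type u}
    [AddCommGroup M] [Module A M] [IsArtinian A M] (p : ℕ) (hp : 2 ≤ p) (φ : M →+ M)
    (hφ : ∀ (a : A) (x : M), φ (a • x) = a ^ p • φ x)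
    (hloc : ∀ x : M, ∃ n : ℕ, (⇑φ)^[n] x = 0) : ∃ n : ℕ, ∀ x : M, (⇑φ)^[n] x = 0 := by
  classical
  have hM : LocCoh.IsPowerTorsion (maximalIdeal A) M := Artinian.isPowerTorsion_of_isArtinian M
  have hne : maximalIdeal A ≠ ⊤ := (maximalIdeal.isMaximal A).ne_top
  letI := Complete.completionModule hM
  haveI := Complete.isScalarTower_completionModule hM
  haveI : IsLocalRing (AdicCompletion (maximalIdeal A) A) :=
    Groth.Agent.Lib.Regular.Completion.isLocalRing _ hne
  haveI : IsNoetherianRing (AdicCompletion (maximalIdeal A) A) :=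
    Groth.Agent.Lib.Excellent.CompletionNoetherian.isNoetherianRing_adicCompletion _
  haveI : IsAdicComplete (maximalIdeal (AdicCompletion (maximalIdeal A) A))
      (AdicCompletion (maximalIdeal A) A) := by
    rw [← Groth.Agent.Lib.Regular.Completion.map_maximalIdeal _ hne]
    exact AdicCompletion.isAdicComplete_self _ (Ideal.fg_of_isNoetherianRing _)
  haveI : IsArtinian (AdicCompletion (maximalIdeal A) A) M := isArtinian_of_tower A (inferInstance : IsArtinian A M)
  refine core (R := AdicCompletion (maximalIdeal A) A) p hp φ (fun r x => ?_) hloc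
  obtain ⟨n, a, hx, hy, ha⟩ := Complete.exists_uniform hM r x (φ x)
  show φ (Complete.smulFun _ hM r x) = Complete.smulFun _ hM (r ^ p) (φ x)
  rw [Complete.smulFun_eq hM r x n hx a ha,
    Complete.smulFun_eq hM (r ^ p) (φ x) n hy (a ^ p) (by rw [map_pow, map_pow, ha]), hφ]

theorem of_cofinite {A : Type u} [CommRing A] [IsLocalRing A] [IsNoetherianRing A] {M : Type*}
    [AddCommGroup M] [Module A M] (htors : LocCoh.IsPowerTorsion (maximalIdeal A) M)
    (hsoc : Module.Finite A ↥(LocCoh.torsionBy (maximalIdeal A) M)) : IsArtinian A M :=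
  Artinian.isArtinian_of_torsionBy _ (Ideal.fg_of_isNoetherianRing _) M htors
    ((Artinian.isArtinian_torsionBy_iff _ M).2
      (Module.Finite.of_restrictScalars_finite A (A ⧸ maximalIdeal A) _))

end Groth.Agent.H24.FrobNilp
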